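import Mathlib
import Cfsg.Prelude.Def_GeometricClasses

set_option autoImplicit false

/-!
# Project O9H (designer helper16): the spinor-norm HALVINGS for `Ω_{2d+1}(q)`, `q` odd (sub-project of S2517 / O9U).

Top statements (file `Main`): `o9h_plus`, `o9h_minus`: for `x ∈ Ω(quadFormOdd d F)` with characteristic polynomial
`(X - 1)^a * (f₁ * f₂)` (`f₂` the monic reciprocal of the monic irreducible `f₁ ≠ f₂`, degree `e`), resp. `(X - 1)^a * f`
(`f` irreducible self-reciprocal of degree `2e`): `f₁ * f₂ ∣ X ^ m - 1` with `2 m = q^e - 1`, resp. `f ∣ X ^ m - 1` with `2 m = q^e + 1`.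

METHOD (no spinor norm formula needed): an element of `Ω = [O, O]` is an EVEN permutation of every level set `{v | Q v = c}`
(`Cfsg.Agent.Lib.Helper16.spinSign`, `omega_le_ker`).  `h = x ^ (p^t)` fixes `V₁ = ker (x - 1)^a` pointwise and acts FREELY, with all orbits of length
`o` (the order of the roots of `f`), on the nonzero vectors of the orthogonal complement `V' = ker f(x)` (dimension `2e`, type `ε`).  The moved points of
`{Q = 1}` number `(q^e - ε) * odd` (level set counts of `V'`: `ty_class`, `onecm2_val_even`), so evenness forces `2 o ∣ q^e - ε`.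
-/

namespace Cfsg.Agent.Lib.Helper16.O9H

open Matrix Polynomial

variable {ι : Type} [Fintype ι] [DecidableEq ι] {F : Type*} [Field F]

/-- the polar form of `Q` (abbreviation) -/
abbrev pol (Q : QuadraticForm F (ι → F)) (u v : ι → F) : F := QuadraticMap.polar (⇑Q) u v

/-- the linear map of a `GL` element -/
noncomputable abbrev linOf (g : GL ι F) : Module.End F (ι → F) := Matrix.toLin' (g : Matrix ι ι F)

/-- the kernel of `P(g)` -/
noncomputable abbrev kerP (g : GL ι F) (P : F[X]) : Submodule F (ι → F) :=
  LinearMap.ker (aeval (linOf g) P)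

end Cfsg.Agent.Lib.Helper16.O9H
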