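import Mathlib
import Cfsg.Agent.Lib.Helper16.O9H.Defs
import Cfsg.Agent.Lib.Helper16.O9HHALV
import Cfsg.Agent.Lib.Helper16.SpinG2
import Cfsg.Agent.Lib.helper15.S5972STDO
import Cfsg.Agent.Lib.helper15.O9HKCOP
import Cfsg.Agent.Lib.Helper16.O9HKSUP
import Cfsg.Agent.Lib.helper14.O9HKORTH
import Cfsg.Agent.Lib.Helper28.O9HKSND
import Cfsg.Agent.Lib.Helper13.O9HKUNIP
import Cfsg.Agent.Lib.Helper24.O9HKINV
import Cfsg.Agent.Lib.Helper5.O9HAMINUS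
import Cfsg.Agent.Lib.Helper5.O9HAFREE1
import Cfsg.Agent.Lib.helper17.O9HAORD
import Cfsg.Agent.Lib.Helper22.O9HAFREE2
import Cfsg.Agent.Lib.Helper13.O9HAPLUS1
import Cfsg.Agent.Lib.Helper11.O9HAPLUS2
import Cfsg.Agent.Lib.Helper11.SO8C3

/-!
# Project O9H: the assemblies MINUS (`minus_core`), PLUS (`plus_core`) and the exports `o9h_minus`, `o9h_plus` (verbatim vs `Skel.lean.txt`).
-/

set_option autoImplicit false
set_option linter.unusedVariables false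
set_option linter.unusedSectionVars false

namespace Cfsg.Agent.Lib.Helper16.O9H

open Matrix Polynomial Module Cfsg.Agent.Lib.Helper16

variable {ι : Type} [Fintype ι] [DecidableEq ι] {F : Type*} [Field F]

/-- `2 ≠ 0` in a finite field of odd order -/
theorem o9hcore_two [Fintype F] (hodd : Odd (Fintype.card F)) : (2 : F) ≠ 0 := by
  intro h
  have hchar : ringChar F = 2 := by
    have : CharP F 2 := CharTwo.of_one_ne_zero_of_two_eq_zero one_ne_zero h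
    exact ringChar.eq F 2
  have := FiniteField.even_card_of_char_two hchar
  obtain ⟨t, ht⟩ := hodd
  omega

/-- the common set-up of the two cores: the power `s = ⟨g, hg⟩ ^ (p ^ a)`, the complement `W' = ker R(g)` and the halving -/
theorem o9hcore_setup [Fintype F] (hodd : Odd (Fintype.card F)) (Q : QuadraticForm F (ι → F))
    (hQ : ∀ x, (∀ y, pol Q x y = 0) → x = 0) (g : GL ι F) (hg : g ∈ Cfsg.isometryGroup F ⇑Q)
    (hΩ : (⟨g, hg⟩ : ↥(Cfsg.isometryGroup F ⇑Q)) ∈ Cfsg.Omega F ⇑Q) (a e : ℕ) (he : 1 ≤ e) (R : F[X])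
    (hR1 : R.eval 1 ≠ 0) (hRrev : R.reverse = R) (hRd : R.natDegree = 2 * e)
    (hχ : (g : Matrix ι ι F).charpoly = (X - 1) ^ a * R) (o : ℕ) (hoq : Nat.Coprime o (Fintype.card F))
    (hfreeg : ∀ y ∈ kerP g R, y ≠ 0 → ∀ j : ℕ, ((g ^ j : GL ι F) : Matrix ι ι F) *ᵥ y = y ↔ o ∣ j) :
    ∃ ε : ℤ, (ε = 1 ∨ ε = -1) ∧ ((2 * o : ℕ) : ℤ) ∣ (Fintype.card F : ℤ) ^ e - ε := by
  classical
  obtain ⟨p, hp⟩ := CharP.exists F
  haveI := hp
  haveI : Fact p.Prime := ⟨CharP.char_is_prime F p⟩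
  have hpp : p.Prime := Fact.out
  have h2 : (2 : F) ≠ 0 := o9hcore_two hodd
  have hpq : p ∣ Fintype.card F := (CharP.cast_eq_zero_iff F p _).mp (Nat.cast_card_eq_zero F)
  have hop : Nat.Coprime o p := Nat.Coprime.coprime_dvd_right hpq hoq
  -- the spaces
  have hcop : IsCoprime ((X - 1 : F[X]) ^ a) R := coprime_one a R hR1
  have hcompl := ker_sup g _ _ hcop hχ
  have horth : ∀ x ∈ kerP g ((X - 1) ^ a), ∀ y ∈ kerP g R, pol Q x y = 0 := by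
    intro x hx y hy
    have h := ker_orth Q g hg R ((X - 1) ^ a) (by rw [hRrev]; exact hcop.symm) y x hy hx
    unfold pol at h ⊢
    rw [QuadraticMap.polar_comm]
    exact h
  have hnd := ker_snd Q hQ _ _ hcompl.sup_eq_top horth
  obtain ⟨-, -, hdimW⟩ := ker_dim_one g a R hR1 hχ
  rw [hRd] at hdimW
  -- the element
  have hsΩ : (⟨g, hg⟩ : ↥(Cfsg.isometryGroup F ⇑Q)) ^ (p ^ a) ∈ Cfsg.Omega F ⇑Q := Subgroup.pow_mem _ hΩ _
  have hscoe : (((⟨g, hg⟩ : ↥(Cfsg.isometryGroup F ⇑Q)) ^ (p ^ a) : ↥(Cfsg.isometryGroup F ⇑Q)) : GL ι F) =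
      g ^ (p ^ a) := rfl
  have hap : a ≤ p ^ a := (Nat.lt_pow_self hpp.one_lt).le
  refine free_halving h2 hodd Q _ hsΩ _ _ hcompl horth hnd ?_ ?_ e he hdimW o hoq ?_
  · intro x hx
    rw [hscoe]
    exact unip_pow g a a hap x hx
  · intro y hy
    rw [hscoe]
    exact ker_inv g R (p ^ a) y hy
  · intro y hy hy0 j
    rw [hscoe, ← pow_mul, hfreeg y hy hy0 (p ^ a * j)]
    exact (Nat.Coprime.pow_right a hop).dvd_mul_left

/-- `n - 1` is prime to `n` -/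
theorem o9hcore_cop (n : ℕ) (hn : 1 ≤ n) : Nat.Coprime (n - 1) n := by
  obtain ⟨k, rfl⟩ : ∃ k, n = k + 1 := ⟨n - 1, by omega⟩
  rw [Nat.add_sub_cancel]
  simp

theorem minus_core [Fintype F] (hodd : Odd (Fintype.card F)) (Q : QuadraticForm F (ι → F))
    (hQ : ∀ x, (∀ y, pol Q x y = 0) → x = 0) (g : GL ι F) (hg : g ∈ Cfsg.isometryGroup F ⇑Q)
    (hΩ : (⟨g, hg⟩ : ↥(Cfsg.isometryGroup F ⇑Q)) ∈ Cfsg.Omega F ⇑Q) (a e : ℕ) (he : 1 ≤ e) (f : F[X])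
    (hf : Irreducible f) (hrev : f.reverse = f) (hd : f.natDegree = 2 * e)
    (hχ : (g : Matrix ι ι F).charpoly = (X - 1) ^ a * f) (m : ℕ) (hm : 2 * m = Fintype.card F ^ e + 1) :
    f ∣ (X ^ m - 1 : F[X]) := by
  classical
  obtain ⟨h1, h0, hn2, hnq⟩ := minus_alg f hf e he hd
  obtain ⟨o, ho0, ho⟩ := ord_exists f hf h0
  have hq1 : 1 < Fintype.card F := Fintype.one_lt_card
  -- `o` is prime to `q`
  have hoq' : o ∣ Fintype.card F ^ (2 * e) - 1 := by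
    rw [← ho, ← hd]
    exact Cfsg.Agent.Lib.Helper19.SO8.irr_dvd f hf h0
  have hoq : Nat.Coprime o (Fintype.card F) := by
    have hpos : 1 ≤ Fintype.card F ^ (2 * e) := Nat.one_le_pow _ _ (by omega)
    have h3 : Nat.Coprime (Fintype.card F ^ (2 * e) - 1) (Fintype.card F ^ (2 * e)) :=
      o9hcore_cop _ hpos
    have h4 : Nat.Coprime o (Fintype.card F ^ (2 * e)) := Nat.Coprime.coprime_dvd_left hoq' h3
    exact Nat.Coprime.coprime_dvd_right (dvd_pow_self _ (by omega)) h4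
  obtain ⟨ε, hε, hdiv⟩ := o9hcore_setup hodd Q hQ g hg hΩ a e he f h1 hrev hd hχ o hoq
    (fun y hy hy0 j => free_one g f hf o ho y hy hy0 j)
  have hqe : 1 ≤ Fintype.card F ^ e := Nat.one_le_pow _ _ (by omega)
  rcases hε with rfl | rfl
  · exfalso
    apply hnq
    rw [ho]
    have h5 : ((2 * o : ℕ) : ℤ) ∣ ((Fintype.card F ^ e - 1 : ℕ) : ℤ) := by
      rw [Nat.cast_sub hqe]
      simpa using hdiv
    have h6 : 2 * o ∣ Fintype.card F ^ e - 1 := by exact_mod_cast h5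
    exact dvd_trans (dvd_mul_left o 2) h6
  · rw [ho]
    have h5 : ((2 * o : ℕ) : ℤ) ∣ ((Fintype.card F ^ e + 1 : ℕ) : ℤ) := by
      have : ((Fintype.card F ^ e + 1 : ℕ) : ℤ) = (Fintype.card F : ℤ) ^ e - (-1) := by
        push_cast; ring
      rw [this]
      exact hdiv
    have h6 : 2 * o ∣ Fintype.card F ^ e + 1 := by exact_mod_cast h5
    rw [← hm] at h6
    exact (Nat.mul_dvd_mul_iff_left (by norm_num : 0 < 2)).mp h6

theorem plus_core [Fintype F] (hodd : Odd (Fintype.card F)) (Q : QuadraticForm F (ι → F))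
    (hQ : ∀ x, (∀ y, pol Q x y = 0) → x = 0) (g : GL ι F) (hg : g ∈ Cfsg.isometryGroup F ⇑Q)
    (hΩ : (⟨g, hg⟩ : ↥(Cfsg.isometryGroup F ⇑Q)) ∈ Cfsg.Omega F ⇑Q) (a e : ℕ) (he : 1 ≤ e) (f₁ f₂ : F[X])
    (hf₁ : Irreducible f₁) (hm₁ : f₁.Monic) (hm₂ : f₂.Monic) (hd₁ : f₁.natDegree = e)
    (hrev : f₁.reverse = C (f₁.coeff 0) * f₂) (hne : f₁ ≠ f₂)
    (hχ : (g : Matrix ι ι F).charpoly = (X - 1) ^ a * (f₁ * f₂)) (m : ℕ)
    (hm : 2 * m = Fintype.card F ^ e - 1) : f₁ * f₂ ∣ (X ^ m - 1 : F[X]) := by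
  classical
  obtain ⟨h0, hf₂, hd₂, hcop12, h1⟩ := plus_alg1 f₁ f₂ hf₁ hm₁ hm₂ hrev hne
  obtain ⟨hRrev, hiff, hn2⟩ := plus_alg2 f₁ f₂ hf₁ hm₁ hm₂ hrev hne
  obtain ⟨o, ho0, ho⟩ := ord_exists f₁ hf₁ h0
  have ho₂ : ∀ j : ℕ, f₂ ∣ (X ^ j - 1 : F[X]) ↔ o ∣ j := fun j => (hiff j).trans (ho j)
  have hq1 : 1 < Fintype.card F := Fintype.one_lt_card
  have hqe : 1 ≤ Fintype.card F ^ e := Nat.one_le_pow _ _ (by omega)
  have hoq' : o ∣ Fintype.card F ^ e - 1 := by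
    rw [← ho, ← hd₁]
    exact Cfsg.Agent.Lib.Helper19.SO8.irr_dvd f₁ hf₁ h0
  have hoq : Nat.Coprime o (Fintype.card F) := by
    have h3 : Nat.Coprime (Fintype.card F ^ e - 1) (Fintype.card F ^ e) :=
      o9hcore_cop _ hqe
    have h4 : Nat.Coprime o (Fintype.card F ^ e) := Nat.Coprime.coprime_dvd_left hoq' h3
    exact Nat.Coprime.coprime_dvd_right (dvd_pow_self _ (by omega)) h4
  have hRd : (f₁ * f₂).natDegree = 2 * e := by
    rw [Polynomial.natDegree_mul hf₁.ne_zero hf₂.ne_zero, hd₂, hd₁]; ring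
  obtain ⟨ε, hε, hdiv⟩ := o9hcore_setup hodd Q hQ g hg hΩ a e he (f₁ * f₂) h1 hRrev hRd hχ o hoq
    (fun y hy hy0 j => free_two g f₁ f₂ hf₁ hf₂ hcop12 o ho ho₂ y hy hy0 j)
  rcases hε with rfl | rfl
  · have h5 : ((2 * o : ℕ) : ℤ) ∣ ((Fintype.card F ^ e - 1 : ℕ) : ℤ) := by
      rw [Nat.cast_sub hqe]
      simpa using hdiv
    have h6 : 2 * o ∣ Fintype.card F ^ e - 1 := by exact_mod_cast h5
    rw [← hm] at h6
    have h7 : o ∣ m := (Nat.mul_dvd_mul_iff_left (by norm_num : 0 < 2)).mp h6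
    exact hcop12.mul_dvd ((ho m).mpr h7) ((ho₂ m).mpr h7)
  · exfalso
    apply hn2
    rw [ho]
    have h5 : ((2 * o : ℕ) : ℤ) ∣ ((Fintype.card F ^ e + 1 : ℕ) : ℤ) := by
      have : ((Fintype.card F ^ e + 1 : ℕ) : ℤ) = (Fintype.card F : ℤ) ^ e - (-1) := by
        push_cast; ring
      rw [this]
      exact hdiv
    have h6 : 2 * o ∣ Fintype.card F ^ e + 1 := by exact_mod_cast h5
    have h7 : o ∣ Fintype.card F ^ e + 1 := dvd_trans (dvd_mul_left o 2) h6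
    have h8 : o ∣ (Fintype.card F ^ e + 1) - (Fintype.card F ^ e - 1) := Nat.dvd_sub h7 hoq'
    have h9 : (Fintype.card F ^ e + 1) - (Fintype.card F ^ e - 1) = 2 := by omega
    rwa [h9] at h8


/-- the standard odd-dimensional form is nondegenerate -/
theorem o9htop_nd (h2 : (2 : F) ≠ 0) (d : ℕ) :
    ∀ x, (∀ y, pol (qfOdd d F) x y = 0) → x = 0 := by
  obtain ⟨-, hnd, -, -⟩ := Cfsg.Agent.Lib.helper15.S5972.stdO_facts (F := F) h2 d
  intro x hx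
  apply hnd x
  intro y
  exact hx y

theorem o9h_minus [Fintype F] (hodd : Odd (Fintype.card F)) (d : ℕ) (x : GL (Unit ⊕ (Fin d ⊕ Fin d)) F)
    (hx : x ∈ Cfsg.Geo.omegaGL (Cfsg.quadFormOdd d F)) (a e : ℕ) (he : 1 ≤ e) (f : F[X])
    (hf : Irreducible f) (hrev : f.reverse = f) (hd : f.natDegree = 2 * e)
    (hχ : (x : Matrix (Unit ⊕ (Fin d ⊕ Fin d)) (Unit ⊕ (Fin d ⊕ Fin d)) F).charpoly = (X - 1) ^ a * f)
    (m : ℕ) (hm : 2 * m = Fintype.card F ^ e + 1) : f ∣ (X ^ m - 1 : F[X]) := by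
  obtain ⟨y, hy, rfl⟩ := hx
  exact minus_core hodd (qfOdd d F) (o9htop_nd (o9hcore_two hodd) d) y.1 y.2 hy a e he f hf hrev hd hχ m hm

theorem o9h_plus [Fintype F] (hodd : Odd (Fintype.card F)) (d : ℕ) (x : GL (Unit ⊕ (Fin d ⊕ Fin d)) F)
    (hx : x ∈ Cfsg.Geo.omegaGL (Cfsg.quadFormOdd d F)) (a e : ℕ) (he : 1 ≤ e) (f₁ f₂ : F[X])
    (hf₁ : Irreducible f₁) (hm₁ : f₁.Monic) (hm₂ : f₂.Monic) (hd₁ : f₁.natDegree = e)
    (hrev : f₁.reverse = C (f₁.coeff 0) * f₂) (hne : f₁ ≠ f₂)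
    (hχ : (x : Matrix (Unit ⊕ (Fin d ⊕ Fin d)) (Unit ⊕ (Fin d ⊕ Fin d)) F).charpoly =
      (X - 1) ^ a * (f₁ * f₂)) (m : ℕ) (hm : 2 * m = Fintype.card F ^ e - 1) :
    f₁ * f₂ ∣ (X ^ m - 1 : F[X]) := by
  obtain ⟨y, hy, rfl⟩ := hx
  exact plus_core hodd (qfOdd d F) (o9htop_nd (o9hcore_two hodd) d) y.1 y.2 hy a e he f₁ f₂ hf₁ hm₁ hm₂ hd₁
    hrev hne hχ m hm

end Cfsg.Agent.Lib.Helper16.O9H
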